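import Mathlib
import Cfsg.Agent.Lib.Helper31.Siegel.Defs
import Cfsg.Agent.Lib.Helper96.Siegel.Dual

set_option autoImplicit false

/-!
SIEGEL (S5072) package [CONN2C]: the same line given twice has an opposite.
Also: singular duals of a singular line.
-/

open scoped Matrix

namespace Cfsg.Agent.Lib.Helper87.Siegel

open Cfsg.Agent.Lib.Helper31.Siegel

universe u

/-- singular duals of a singular line -/
theorem sing_duals2 {n : ℕ} {F : Type u} [Field F] (hD : PkgDual.{u}) (p r : Vec n F)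
    (hpr : IsSingLine p r) :
    ∃ x y : Vec n F, IsSingLine x y ∧ B p x = 1 ∧ B r x = 0 ∧ B p y = 0 ∧ B r y = 1 := by
  obtain ⟨w', hw'⟩ := hD n F 2 ![p, r] hpr.1
  have h11 : B p (w' 0) = 1 := by simpa using hw' 0 0
  have h12 : B p (w' 1) = 0 := by simpa using hw' 0 1
  have h21 : B r (w' 0) = 0 := by simpa using hw' 1 0
  have h22 : B r (w' 1) = 1 := by simpa using hw' 1 1
  have hQp := hpr.2.1
  have hQr := hpr.2.2.1
  have hBpr : B p r = 0 := by
    have h1 := hpr.2.2.2
    rw [Q_add, hQp, hQr] at h1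
    linear_combination h1
  have hBrp : B r p = 0 := by rw [B_comm]; exact hBpr
  have hBpp : B p p = 0 := by rw [B_self, hQp]; ring
  have hBrr : B r r = 0 := by rw [B_self, hQr]; ring
  obtain ⟨w1, hw1⟩ : ∃ w1, w1 = w' 0 := ⟨_, rfl⟩
  obtain ⟨w2, hw2⟩ : ∃ w2, w2 = w' 1 := ⟨_, rfl⟩
  rw [← hw1] at h11 h21
  rw [← hw2] at h12 h22
  have h11' : B w1 p = 1 := by rw [B_comm]; exact h11
  have h12' : B w2 p = 0 := by rw [B_comm]; exact h12
  have h21' : B w1 r = 0 := by rw [B_comm]; exact h21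
  have h22' : B w2 r = 1 := by rw [B_comm]; exact h22
  have hBpx : B p (w1 - QF n F w1 • p - B w1 w2 • r) = 1 := by
    rw [B_sub_right, B_sub_right, B_smul_right, B_smul_right, h11, hBpp, hBpr]; ring
  have hBrx : B r (w1 - QF n F w1 • p - B w1 w2 • r) = 0 := by
    rw [B_sub_right, B_sub_right, B_smul_right, B_smul_right, h21, hBrp, hBrr]; ring
  have hBpy : B p (w2 - QF n F w2 • r) = 0 := by
    rw [B_sub_right, B_smul_right, h12, hBpr]; ring
  have hBry : B r (w2 - QF n F w2 • r) = 1 := by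
    rw [B_sub_right, B_smul_right, h22, hBrr]; ring
  have hQy : QF n F (w2 - QF n F w2 • r) = 0 := by
    rw [Q_sub, Q_smul, B_smul_right, h22', hQr]; ring
  have hQx : QF n F (w1 - QF n F w1 • p - B w1 w2 • r) = 0 := by
    rw [Q_sub, Q_sub, Q_smul, Q_smul, B_smul_right, B_smul_right, B_sub_left, B_smul_left,
      h11', h21', hBpr, hQp, hQr]
    ring
  have hBxy : B (w1 - QF n F w1 • p - B w1 w2 • r) (w2 - QF n F w2 • r) = 0 := by
    rw [B_sub_left, B_sub_left, B_smul_left, B_smul_left, hBpy, hBry, B_sub_right, B_smul_right,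
      h21']
    ring
  refine ⟨w1 - QF n F w1 • p - B w1 w2 • r, w2 - QF n F w2 • r, ⟨?_, hQx, hQy, ?_⟩,
    hBpx, hBrx, hBpy, hBry⟩
  · rw [LinearIndependent.pair_iff]
    intro a b hab
    have h1 := congrArg (fun v => B p v) hab
    have h2 := congrArg (fun v => B r v) hab
    simp only [B_add_right, B_smul_right, hBpx, hBpy, hBrx, hBry, B_zero_right] at h1 h2
    constructor
    · linear_combination h1
    · linear_combination h2
  · rw [Q_add, hQx, hQy, hBxy]; ring

theorem pkgConn2C_of (hD : PkgDual.{u}) : PkgConn2C.{u} := by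
  intro n F _ p r s hpr hps hnli
  obtain ⟨x, y, hxy, hpx, hrx, hpy, hry⟩ := sing_duals2 hD p r hpr
  refine ⟨x, y, hxy, ?_, ?_⟩
  · unfold Opp
    rw [hpx, hry, hpy, hrx]
    norm_num
  · unfold Opp
    rw [hpx, hpy, one_mul, zero_mul, sub_zero]
    intro hsy
    apply hnli
    rw [Fintype.linearIndependent_iff]
    intro g hg
    rw [Fin.sum_univ_three] at hg
    change g 0 • p + g 1 • r + g 2 • s = 0 at hg
    have h1 := congrArg (fun v => B v y) hg
    simp only [B_add_left, B_smul_left, hpy, hry, hsy, B_zero_left] at h1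
    have hg1 : g 1 = 0 := by linear_combination h1
    rw [hg1, zero_smul, add_zero] at hg
    have hli := hps.1
    rw [LinearIndependent.pair_iff] at hli
    obtain ⟨hg0, hg2⟩ := hli _ _ hg
    intro i
    fin_cases i
    · exact hg0
    · exact hg1
    · exact hg2

theorem pkgConn2C : PkgConn2C.{u} := pkgConn2C_of Cfsg.Agent.Lib.Helper96.Siegel.pkgDual

end Cfsg.Agent.Lib.Helper87.Siegel
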