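import Mathlib
import Cfsg.Agent.Lib.Helper31.Siegel.Defs

set_option autoImplicit false

/-!
SIEGEL (S5072) package [MEET]: two singular lines can be rebased so that their first vectors
coincide or span a singular line.
-/

open scoped Matrix

namespace Cfsg.Agent.Lib.Helper87.Siegel

open Cfsg.Agent.Lib.Helper31.Siegel

universe u

theorem reb_refl {n : ℕ} {F : Type u} [Field F] (p r : Vec n F) : Reb p r p r :=
  ⟨1, 0, 0, 1, by simp, by simp, by simp⟩

theorem meet_aux {n : ℕ} {F : Type u} [Field F] (p0 s t : Vec n F) (hp0 : p0 ≠ 0)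
    (hQp0 : QF n F p0 = 0) (hB : B p0 s = 0) (hst : IsSingLine s t) :
    ∃ s' t' : Vec n F, Reb s t s' t' ∧ (p0 = s' ∨ IsSingLine p0 s') := by
  by_cases hli : LinearIndependent F ![p0, s]
  · refine ⟨s, t, reb_refl s t, Or.inr ⟨hli, hQp0, hst.2.1, ?_⟩⟩
    rw [Q_add, hQp0, hst.2.1, hB]; ring
  · have hs0 : s ≠ 0 := by
      have h1 := hst.1.ne_zero 0
      simpa using h1
    rw [LinearIndependent.pair_iff] at hli
    push_neg at hli
    obtain ⟨a, b, hab, hne⟩ := hli
    have ha : a ≠ 0 := by
      intro ha0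
      have hb := hne ha0
      rw [ha0, zero_smul, zero_add] at hab
      rcases smul_eq_zero.1 hab with h | h
      · exact hb h
      · exact hs0 h
    have hb : b ≠ 0 := by
      intro hb0
      rw [hb0, zero_smul, add_zero] at hab
      rcases smul_eq_zero.1 hab with h | h
      · exact ha h
      · exact hp0 h
    have hp0s : p0 = (-b / a) • s := by
      have h1 : a • p0 = -(b • s) := eq_neg_of_add_eq_zero_left hab
      calc p0 = a⁻¹ • (a • p0) := by rw [smul_smul, inv_mul_cancel₀ ha, one_smul]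
        _ = a⁻¹ • (-(b • s)) := by rw [h1]
        _ = (-b / a) • s := by
          rw [smul_neg, smul_smul, ← neg_smul]
          congr 1
          field_simp
    refine ⟨p0, t, ⟨-b / a, 0, 0, 1, ?_, ?_, ?_⟩, Or.inl rfl⟩
    · rw [mul_one, mul_zero, sub_zero]
      exact div_ne_zero (neg_ne_zero.2 hb) ha
    · rw [zero_smul, add_zero]; exact hp0s
    · rw [zero_smul, zero_add, one_smul]

theorem pkgMeet : PkgMeet.{u} := by
  intro n F _ p r s t hpr hst
  have hp0 : p ≠ 0 := by
    have h1 := hpr.1.ne_zero 0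
    simpa using h1
  by_cases hps : B p s = 0
  · obtain ⟨s', t', h1, h2⟩ := meet_aux p s t hp0 hpr.2.1 hps hst
    exact ⟨p, r, s', t', reb_refl p r, h1, h2⟩
  · have hBpr : B p r = 0 := by
      have h1 := hpr.2.2.2
      rw [Q_add, hpr.2.1, hpr.2.2.1] at h1
      linear_combination h1
    have hli := hpr.1
    rw [LinearIndependent.pair_iff] at hli
    have hne : r - (B r s / B p s) • p ≠ 0 := by
      intro h
      have h1 : (-(B r s / B p s)) • p + (1 : F) • r = 0 := by
        rw [neg_smul, one_smul, neg_add_eq_sub]; exact h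
      exact one_ne_zero (hli _ _ h1).2
    have hQ : QF n F (r - (B r s / B p s) • p) = 0 := by
      rw [Q_sub, Q_smul, B_smul_right, B_comm r p, hBpr, hpr.2.1, hpr.2.2.1]; ring
    have hBs : B (r - (B r s / B p s) • p) s = 0 := by
      rw [B_sub_left, B_smul_left]
      field_simp
      ring
    obtain ⟨s', t', h1, h2⟩ := meet_aux _ s t hne hQ hBs hst
    refine ⟨r - (B r s / B p s) • p, p, s', t', ⟨-(B r s / B p s), 1, 1, 0, ?_, ?_, ?_⟩, h1, h2⟩
    · simp
    · rw [neg_smul, one_smul, neg_add_eq_sub]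
    · rw [one_smul, zero_smul, add_zero]

end Cfsg.Agent.Lib.Helper87.Siegel
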